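import Cfsg.Agent.H539.Lim.Defs
import Cfsg.Agent.H309.Lim.Norm
set_option linter.all false

-- part: H539/Lim/DefsC
section
/-!
# Definitions for Claim T (helper539, for S5242)
-/

set_option autoImplicit false

namespace Cfsg.Agent.H539.Lim

open MulAction

/-- `a` acts as a transvection `d ↦ d + f(d) z` -/
structure Tv {G : Type*} [Group G] {D : Type*} [AddCommGroup D] [DistribMulAction G D] (a : G)
    (f : D →+ ZMod 2) (z : D) : Prop where
  ne_one : a ≠ 1
  sq : a * a = 1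
  z_ne : z ≠ 0
  two_z : z + z = 0
  f_ne : f ≠ 0
  fz : f z = 0
  act : ∀ d : D, a • d = d + (f d).val • z

/-- the subgroups containing a nontrivial best offender -/
def Q0 (G : Type*) [Group G] (D : Type*) [AddCommGroup D] [DistribMulAction G D] : Set (Subgroup G) :=
  {P | ∃ A : Subgroup G, A ≤ P ∧ A ≠ ⊥ ∧ BO D A}

/-- the subgroups containing a nontrivial norm-good best offender -/
def Qs (G : Type*) [Group G] (D : Type*) [AddCommGroup D] [DistribMulAction G D] : Set (Subgroup G) :=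
  {P | ∃ A : Subgroup G, A ≤ P ∧ A ≠ ⊥ ∧ BO D A ∧ NGood 2 D A}

/-- the subgroups containing a transvection -/
def Q1 (G : Type*) [Group G] (D : Type*) [AddCommGroup D] [DistribMulAction G D] : Set (Subgroup G) :=
  {P | ∃ a ∈ P, ∃ (f : D →+ ZMod 2) (z : D), Tv a f z}

/-- a Sylow orbit (prime 2) -/
structure Orb2 (G : Type*) [Group G] {Ω : Type*} [MulAction G Ω] (Ω₀ : Finset Ω) : Prop where
  smul_mem : ∀ (g : G), ∀ y ∈ Ω₀, g • y ∈ Ω₀
  trans : ∀ y ∈ Ω₀, ∀ z ∈ Ω₀, ∃ g : G, g • y = z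
  sylow : ∀ y ∈ Ω₀, ∃ S : Sylow 2 G, (S : Subgroup G) = stabilizer G y
  odd : Odd Ω₀.card

/-- the standing hypotheses on a cocycle on `Q0` (two-point function, supported on `Q0`) -/
structure Coc2 (G : Type*) [Group G] {Ω : Type*} [MulAction G Ω] {D : Type*} [AddCommGroup D]
    [DistribMulAction G D] (Ω₀ : Finset Ω) (c : Ω → Ω → D) : Prop where
  equiv : ∀ (g : G) x y, c (g • x) (g • y) = g • c x y
  supp : ∀ x y, stabilizer G x ⊓ stabilizer G y ∉ Q0 G D → c x y = 0
  coc : ∀ x ∈ Ω₀, ∀ y ∈ Ω₀, ∀ z ∈ Ω₀,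
    stabilizer G x ⊓ stabilizer G y ⊓ stabilizer G z ∈ Q0 G D → c x z = c x y + c y z

open Classical in
/-- `V_a(x)`: the sum of `c x y` over the `y ∈ Ω₀` fixed by `a` -/
noncomputable def Vv {G : Type*} [Group G] {Ω : Type*} [MulAction G Ω] {D : Type*} [AddCommGroup D]
    (Ω₀ : Finset Ω) (c : Ω → Ω → D) (a : G) (x : Ω) : D :=
  ∑ y ∈ Ω₀.filter (fun y => a • y = y), c x y

/-- the subgroup generated by the transvections in the stabilizer of `x` -/
def Wt (G : Type*) [Group G] {Ω : Type*} [MulAction G Ω] (D : Type*) [AddCommGroup D]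
    [DistribMulAction G D] (x : Ω) : Subgroup G :=
  Subgroup.closure {a | a ∈ stabilizer G x ∧ ∃ (f : D →+ ZMod 2) (z : D), Tv a f z}

open Classical in
/-- the vertex function of case N: the sum of `c x y` over the `y ∈ Ω₀` with `|W : W ∩ G_y| ≤ 2`, `W = Wt G D x` -/
noncomputable def vN (G : Type*) [Group G] {Ω : Type*} [MulAction G Ω] {D : Type*} [AddCommGroup D]
    [DistribMulAction G D] (Ω₀ : Finset Ω) (c : Ω → Ω → D) (x : Ω) : D :=
  ∑ y ∈ Ω₀.filter (fun y => (stabilizer G y).relIndex (Wt G D x) ≤ 2), c x y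

end Cfsg.Agent.H539.Lim
end

-- part: H16/Lim/Conj
section
/-!
# Best offenders, norm-good subgroups and transvections under conjugation; counting (helper16, for S5242)

* `card_DFix_cj`, `bo_cj`, `ngood_cj`, `tv_cj`, `Wt_smul`, `isInv_Q0`, `isInv_Qs`, `isInv_Q1`;
* `even_card_of_fixedPointFree`; `exists_exp`, `exists_inv_mod` : exponents and inverses of odd numbers;
* `stabilizer_smul`, `Orb2.pset` : a Sylow orbit is a `PSet`.
-/

set_option autoImplicit false
set_option linter.unusedSectionVars false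

namespace Cfsg.Agent.H16.Lim

open MulAction Cfsg.Agent.H539.Lim

universe u v w

section Cj

variable {G : Type u} [Group G]

theorem mem_cj {g : G} {P : Subgroup G} {x : G} : x ∈ cj g P ↔ g⁻¹ * x * g ∈ P := by
  constructor
  · rintro ⟨y, hy, rfl⟩
    have : g⁻¹ * (MulAut.conj g).toMonoidHom y * g = y := by
      change g⁻¹ * (g * y * g⁻¹) * g = y
      group
    rwa [this]
  · intro h
    refine ⟨_, h, ?_⟩
    change g * (g⁻¹ * x * g) * g⁻¹ = x
    group

theorem cj_cj (g h : G) (P : Subgroup G) : cj g (cj h P) = cj (g * h) P := by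
  ext x
  rw [mem_cj, mem_cj, mem_cj]
  have : h⁻¹ * (g⁻¹ * x * g) * h = (g * h)⁻¹ * x * (g * h) := by group
  rw [this]

theorem cj_one (P : Subgroup G) : cj 1 P = P := by
  ext x
  rw [mem_cj]
  simp

theorem cj_inv_cj (g : G) (P : Subgroup G) : cj g⁻¹ (cj g P) = P := by
  rw [cj_cj, inv_mul_cancel, cj_one]

theorem cj_cj_inv (g : G) (P : Subgroup G) : cj g (cj g⁻¹ P) = P := by
  rw [cj_cj, mul_inv_cancel, cj_one]

theorem cj_mono {P Q : Subgroup G} (g : G) (h : P ≤ Q) : cj g P ≤ cj g Q := Subgroup.map_mono h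

theorem cj_le_cj {P Q : Subgroup G} (g : G) : cj g P ≤ cj g Q ↔ P ≤ Q := by
  refine ⟨fun h => ?_, cj_mono g⟩
  have := cj_mono g⁻¹ h
  rwa [cj_inv_cj, cj_inv_cj] at this

theorem cj_le_iff {P Q : Subgroup G} (g : G) : cj g P ≤ Q ↔ P ≤ cj g⁻¹ Q := by
  rw [← cj_le_cj g⁻¹, cj_inv_cj]

theorem cj_inf (g : G) (P Q : Subgroup G) : cj g (P ⊓ Q) = cj g P ⊓ cj g Q := by
  ext x
  rw [Subgroup.mem_inf, mem_cj, mem_cj, mem_cj, Subgroup.mem_inf]

theorem card_cj (g : G) (P : Subgroup G) : Nat.card (cj g P) = Nat.card P :=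
  Subgroup.card_map_of_injective (MulAut.conj g).injective

theorem cj_ne_bot {g : G} {P : Subgroup G} (h : P ≠ ⊥) : cj g P ≠ ⊥ := by
  intro h1
  apply h
  rw [← cj_inv_cj g P, h1]
  exact Subgroup.map_bot _

theorem isPGroup_cj {p : ℕ} {P : Subgroup G} (h : IsPGroup p P) (g : G) : IsPGroup p (cj g P) :=
  h.map _

variable {Ω : Type v} [MulAction G Ω]

theorem stabilizer_smul (g : G) (x : Ω) : stabilizer G (g • x) = cj g (stabilizer G x) :=
  MulAction.stabilizer_smul_eq_stabilizer_map_conj g x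

end Cj

section Mod

variable {G : Type u} [Group G] {D : Type w} [AddCommGroup D] [DistribMulAction G D]

theorem mem_DFix {P : Subgroup G} {d : D} : d ∈ DFix P D ↔ ∀ u ∈ P, u • d = d := Iff.rfl

theorem smul_mem_DFix_cj {g : G} {P : Subgroup G} {d : D} : g • d ∈ DFix (cj g P) D ↔ d ∈ DFix P D := by
  rw [mem_DFix, mem_DFix]
  constructor
  · intro h u hu
    have h1 := h (g * u * g⁻¹) (by rw [mem_cj]; simpa [mul_assoc] using hu)
    have h2 : (g * u * g⁻¹) • g • d = g • u • d := by rw [smul_smul, smul_smul]; congr 1; group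
    rw [h2] at h1
    exact smul_left_cancel g h1
  · intro h u hu
    rw [mem_cj] at hu
    have h1 : u • g • d = g • (g⁻¹ * u * g) • d := by rw [smul_smul, smul_smul]; congr 1; group
    rw [h1, h _ hu]

theorem card_DFix_cj (g : G) (P : Subgroup G) : Nat.card (DFix (cj g P) D) = Nat.card (DFix P D) := by
  refine Nat.card_congr (Equiv.symm ?_)
  refine ⟨fun d => ⟨g • d.1, smul_mem_DFix_cj.2 d.2⟩, fun d => ⟨g⁻¹ • d.1, ?_⟩, fun d => ?_, fun d => ?_⟩
  · rw [← smul_mem_DFix_cj (g := g), smul_inv_smul]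
    exact d.2
  · exact Subtype.ext (inv_smul_smul g d.1)
  · exact Subtype.ext (smul_inv_smul g d.1)

theorem isAb_cj {A : Subgroup G} (h : IsAb A) (g : G) : IsAb (cj g A) := by
  intro a ha b hb
  rw [mem_cj] at ha hb
  have h1 := h _ ha _ hb
  have h2 : g⁻¹ * (a * b) * g = g⁻¹ * (b * a) * g := by
    calc g⁻¹ * (a * b) * g = (g⁻¹ * a * g) * (g⁻¹ * b * g) := by group
      _ = (g⁻¹ * b * g) * (g⁻¹ * a * g) := h1
      _ = g⁻¹ * (b * a) * g := by group
  exact mul_left_cancel (mul_right_cancel h2)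

theorem bo_cj {A : Subgroup G} (h : BO D A) (g : G) : BO D (cj g A) := by
  refine ⟨isAb_cj h.1 g, fun B hB => ?_⟩
  have h1 : cj g⁻¹ B ≤ A := by
    have := cj_mono g⁻¹ hB
    rwa [cj_inv_cj] at this
  have h2 := h.2 _ h1
  rwa [card_cj, card_DFix_cj, ← card_cj g A, ← card_DFix_cj (D := D) g A] at h2

theorem ngood_cj {p : ℕ} {A : Subgroup G} (h : NGood p D A) (g : G) : NGood p D (cj g A) := by
  intro M hM hi z hz hz2 a ha haM
  have h1 : cj g⁻¹ M ≤ A := by
    have := cj_mono g⁻¹ hM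
    rwa [cj_inv_cj] at this
  have h2 : (cj g⁻¹ M).relIndex A = p := by
    rw [← hi]
    conv_rhs => rw [← cj_cj_inv g M]
    exact (Subgroup.relIndex_map_map_of_injective _ _ (MulAut.conj g).injective).symm
  have h3 := h _ h1 h2 (g⁻¹ • z) (fun m hm => by
    rw [mem_cj, inv_inv] at hm
    have h4 : m • g⁻¹ • z = g⁻¹ • (g * m * g⁻¹) • z := by rw [smul_smul, smul_smul]; congr 1; group
    rw [h4, hz _ hm]) (fun b hb => by
    have h4 : b • (p • (g⁻¹ • z)) = g⁻¹ • (g * b * g⁻¹) • (p • z) := by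
      rw [← smul_comm g⁻¹ p z, smul_smul, smul_smul]
      congr 1
      group
    rw [h4, hz2 _ (by rw [mem_cj]; simpa [mul_assoc] using hb), ← smul_comm g⁻¹ p z]) (g⁻¹ * a * g) (mem_cj.1 ha)
    (fun h4 => haM (by
      rw [mem_cj, inv_inv] at h4
      have : g * (g⁻¹ * a * g) * g⁻¹ = a := by group
      rwa [this] at h4))
  have h4 := congrArg (g • ·) h3
  simp only [Finset.smul_sum] at h4
  rw [smul_comm g p, smul_inv_smul] at h4
  rw [← h4]
  refine Finset.sum_congr rfl fun i _ => ?_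
  have h5 : (g⁻¹ * a * g) ^ i = g⁻¹ * a ^ i * g := by
    have := conj_pow (i := i) (a := g⁻¹) (b := a)
    rw [inv_inv] at this
    exact this
  rw [h5, smul_smul, smul_smul]
  congr 1
  group

theorem tv_cj {a : G} {f : D →+ ZMod 2} {z : D} (h : Tv a f z) (g : G) :
    Tv (g * a * g⁻¹) (f.comp (DistribSMul.toAddMonoidHom D g⁻¹)) (g • z) where
  ne_one := fun h1 => h.ne_one (by
    have : a = g⁻¹ * (g * a * g⁻¹) * g := by group
    rw [this, h1]
    group)
  sq := by
    have : g * a * g⁻¹ * (g * a * g⁻¹) = g * (a * a) * g⁻¹ := by group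
    rw [this, h.sq]
    group
  z_ne := fun h1 => h.z_ne ((smul_eq_zero_iff_eq g).1 h1)
  two_z := by rw [← smul_add, h.two_z, smul_zero]
  f_ne := fun h1 => h.f_ne (by
    ext d
    have := DFunLike.congr_fun h1 (g • d)
    simpa using this)
  fz := by
    change f (g⁻¹ • g • z) = 0
    rw [inv_smul_smul, h.fz]
  act := by
    intro d
    change _ = d + (f (g⁻¹ • d)).val • (g • z)
    have h1 : (g * a * g⁻¹) • d = g • a • g⁻¹ • d := by rw [smul_smul, smul_smul]
    rw [h1, h.act, smul_add, smul_inv_smul, smul_comm g]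

theorem isInv_Q0 : IsInv (Q0 G D) := by
  rintro g P ⟨A, hA, h1, h2⟩
  exact ⟨cj g A, cj_mono g hA, cj_ne_bot h1, bo_cj h2 g⟩

theorem isInv_Qs : IsInv (Qs G D) := by
  rintro g P ⟨A, hA, h1, h2, h3⟩
  exact ⟨cj g A, cj_mono g hA, cj_ne_bot h1, bo_cj h2 g, ngood_cj h3 g⟩

theorem isInv_Q1 : IsInv (Q1 G D) := by
  rintro g P ⟨a, ha, f, z, h⟩
  exact ⟨g * a * g⁻¹, by rw [mem_cj]; simpa [mul_assoc] using ha, _, _, tv_cj h g⟩

variable {Ω : Type v} [MulAction G Ω]

theorem Wt_smul (g : G) (x : Ω) : Wt G D (g • x) = cj g (Wt G D x) := by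
  have key : ∀ (g : G) (x : Ω), cj g (Wt G D x) ≤ Wt G D (g • x) := by
    intro g x
    unfold Wt
    rw [cj, MonoidHom.map_closure, Subgroup.closure_le]
    rintro _ ⟨a, ⟨ha, f, z, h⟩, rfl⟩
    apply Subgroup.subset_closure
    refine ⟨?_, _, _, tv_cj h g⟩
    rw [stabilizer_smul, mem_cj]
    change g⁻¹ * (g * a * g⁻¹) * g ∈ _
    simpa [mul_assoc] using ha
  refine le_antisymm ?_ (key g x)
  have h1 := key g⁻¹ (g • x)
  rw [inv_smul_smul] at h1
  have h2 := cj_mono g h1
  rwa [cj_cj_inv] at h2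

theorem Wt_le (x : Ω) : Wt G D x ≤ stabilizer G x := by
  unfold Wt
  rw [Subgroup.closure_le]
  exact fun a ha => ha.1

theorem smul_two_of_tv {a : G} {f : D →+ ZMod 2} {z : D} (h : Tv a f z) (d : D) : a • (2 • d) = 2 • d := by
  rw [smul_comm, h.act, smul_add, smul_comm, two_nsmul z, h.two_z, smul_zero, add_zero]

/-- `Wt` acts trivially on `2 D` -/
theorem Wt_smul_two {x : Ω} {t : G} (ht : t ∈ Wt G D x) (d : D) : t • (2 • d) = 2 • d := by
  have h1 : Wt G D x ≤ fixingSubgroup G (Set.range fun d : D => 2 • d) := by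
    unfold Wt
    rw [Subgroup.closure_le]
    rintro a ⟨-, f, z, h⟩
    rw [SetLike.mem_coe, mem_fixingSubgroup_iff]
    rintro _ ⟨d, rfl⟩
    exact smul_two_of_tv h d
  exact (mem_fixingSubgroup_iff G).1 (h1 ht) _ ⟨d, rfl⟩

end Mod

section Count

variable {G : Type u} [Group G] {Ω : Type v} [MulAction G Ω]

/-- a `2`-group without fixed points acts on a set of even cardinality -/
theorem even_card_of_fixedPointFree {T : Subgroup G} [Finite T] (hT : IsPGroup 2 T) (Z : Finset Ω)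
    (hZ : ∀ t ∈ T, ∀ y ∈ Z, t • y ∈ Z) (hfix : ∀ y ∈ Z, ¬ T ≤ stabilizer G y) : Even Z.card := by
  have : Fact (Nat.Prime 2) := ⟨Nat.prime_two⟩
  let _ : MulAction T {y // y ∈ Z} :=
    { smul := fun t y => ⟨(t : G) • y.1, hZ t t.2 y.1 y.2⟩
      one_smul := fun y => Subtype.ext (one_smul G y.1)
      mul_smul := fun a b y => Subtype.ext (mul_smul (a : G) (b : G) y.1) }
  have h1 := hT.card_modEq_card_fixedPoints {y // y ∈ Z}
  have h2 : IsEmpty (fixedPoints T {y // y ∈ Z}) := by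
    refine ⟨fun y => ?_⟩
    apply hfix y.1.1 y.1.2
    intro t ht
    exact congrArg Subtype.val (y.2 ⟨t, ht⟩)
  rw [Nat.card_of_isEmpty (α := fixedPoints T {y // y ∈ Z}), Nat.card_eq_fintype_card, Fintype.card_coe] at h1
  exact (Nat.even_iff).2 h1

end Count

section Exp

variable {D : Type w} [AddCommGroup D] [Finite D]

theorem exists_exp (hD : IsPTors 2 D) : ∃ k : ℕ, ∀ d : D, (2 ^ k : ℕ) • d = 0 := by
  choose k hk using hD
  have := Fintype.ofFinite D
  refine ⟨∑ d, k d, fun d => ?_⟩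
  obtain ⟨m, hm⟩ := Nat.exists_eq_add_of_le (Finset.single_le_sum (f := k) (fun _ _ => Nat.zero_le _)
    (Finset.mem_univ d))
  rw [hm, pow_add, mul_comm, mul_smul, hk, smul_zero]

/-- odd numbers are invertible on a finite abelian `2`-group -/
theorem exists_inv_mod (hD : IsPTors 2 D) : ∃ r : ℕ → ℕ, ∀ n, Odd n → ∀ d : D, r n • n • d = d := by
  obtain ⟨k, hk⟩ := exists_exp hD
  have h1 : ∀ n : ℕ, ∃ r : ℕ, Odd n → ∀ d : D, r • n • d = d := by
    intro n
    by_cases hn : Odd n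
    · have hc : Nat.Coprime n (2 ^ (k + 1)) := (Nat.coprime_two_right.2 hn).pow_right _
      obtain ⟨r, -, hr⟩ := Nat.exists_mul_mod_eq_one_of_coprime hc (Nat.one_lt_two_pow (Nat.succ_ne_zero k))
      refine ⟨r, fun _ d => ?_⟩
      rw [← mul_smul, mul_comm, ← Nat.div_add_mod (n * r) (2 ^ (k + 1)), hr, add_smul, one_smul, mul_comm, mul_smul]
      have h2 : (2 ^ (k + 1) : ℕ) • d = 0 := by rw [pow_succ, mul_comm, mul_smul, hk, smul_zero]
      rw [h2, smul_zero, zero_add]
    · exact ⟨0, fun h => absurd h hn⟩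
  choose r hr using h1
  exact ⟨r, hr⟩

end Exp

section Orb

variable {G : Type u} [Group G] [Finite G] {Ω : Type v} [MulAction G Ω] {Ω₀ : Finset Ω}

theorem isPGroup_of_orb (h0 : Orb2 G Ω₀) {x : Ω} (hx : x ∈ Ω₀) : IsPGroup 2 (stabilizer G x) := by
  obtain ⟨S, hS⟩ := h0.sylow x hx
  rw [← hS]
  exact S.isPGroup'

theorem exists_fix_orb (h0 : Orb2 G Ω₀) {P : Subgroup G} (hP : IsPGroup 2 P) :
    ∃ x ∈ Ω₀, P ≤ stabilizer G x := by
  have : Fact (Nat.Prime 2) := ⟨Nat.prime_two⟩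
  obtain ⟨x, hx⟩ : Ω₀.Nonempty := by
    rw [← Finset.card_pos]
    exact h0.odd.pos
  obtain ⟨S, hS⟩ := h0.sylow x hx
  obtain ⟨R, hR⟩ := hP.exists_le_sylow
  obtain ⟨g, hg⟩ := MulAction.exists_smul_eq G S R
  refine ⟨g • x, h0.smul_mem g x hx, ?_⟩
  rw [stabilizer_smul, ← hS]
  refine hR.trans (le_of_eq ?_)
  rw [← hg]
  rfl

end Orb

end Cfsg.Agent.H16.Lim
end

-- part: H539/Lim/AOne
section
/-!
# A6, A7, A9 (helper539, for S5242)
-/

set_option autoImplicit false

namespace Cfsg.Agent.H539.Lim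

open MulAction

universe u v w

variable {G : Type u} [Group G] {Ω : Type v} [MulAction G Ω] {D : Type w} [AddCommGroup D]
  [DistribMulAction G D]

theorem st_smul_mem {V : Set (Subgroup G)} (hVi : IsInv V) {k : ℕ} (g : G) (x : Fin k → Ω) :
    st G (g • x) ∈ V ↔ st G x ∈ V := by
  have key : ∀ (g : G) (x : Fin k → Ω), st G x ∈ V → st G (g • x) ∈ V := by
    intro g x h
    have := hVi g _ h
    rwa [cj, ← MulAction.stabilizer_smul_eq_stabilizer_map_conj] at this
  refine ⟨fun h => ?_, key g x⟩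
  have := key g⁻¹ _ h
  rwa [inv_smul_smul] at this

theorem van_fix (Y : Subgroup G) [Y.Normal] (hY : ∀ x : Ω, Y ≤ stabilizer G x) {V : Set (Subgroup G)} {n : ℕ}
    (h : Van G Ω ↥(DFix Y D) V n) : Van G Ω D V n := by
  have key : ∀ (k : ℕ) (c : (Fin k → Ω) → D), IsCoch V c →
      ∃ c' : (Fin k → Ω) → ↥(DFix Y D), IsCoch V c' ∧ ∀ x, (c' x : D) = c x := by
    intro k c hc
    refine ⟨fun x => ⟨c x, fun u hu => ?_⟩, ⟨?_, ?_⟩, fun x => rfl⟩
    · rw [← hc.smul u x]
      congr 1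
      funext i
      exact hY (x i) hu
    · intro g x
      apply Subtype.ext
      exact hc.smul g x
    · intro x hx
      apply Subtype.ext
      exact hc.supp x hx
  have hdd : ∀ (k : ℕ) (c' : (Fin k → Ω) → ↥(DFix Y D)) (x : Fin (k + 1) → Ω),
      ((dd c' x : ↥(DFix Y D)) : D) = dd (fun y => (c' y : D)) x := by
    intro k c' x
    simp only [dd, AddSubgroup.val_finset_sum, AddSubgroup.coe_zsmul]
  have hcoc : ∀ (k : ℕ) (c : (Fin k → Ω) → D) (c' : (Fin k → Ω) → ↥(DFix Y D)), (∀ x, (c' x : D) = c x) →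
      IsCoc (G := G) V c → IsCoc (G := G) V c' := by
    intro k c c' h1 h2 x hx
    apply Subtype.ext
    rw [hdd]
    have : (fun y => (c' y : D)) = c := funext h1
    rw [this]
    exact h2 x hx
  cases n with
  | zero =>
    intro c hc hc2 x
    obtain ⟨c', h1, h2⟩ := key _ c hc
    have := h c' h1 (hcoc _ c c' h2 hc2) x
    rw [← h2 x, this]; rfl
  | succ n =>
    intro c hc hc2
    obtain ⟨c', h1, h2⟩ := key _ c hc
    obtain ⟨b', h3, h4⟩ := h c' h1 (hcoc _ c c' h2 hc2)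
    refine ⟨fun y => (b' y : D), ⟨?_, ?_⟩, ?_⟩
    · intro g x
      have := congrArg Subtype.val (h3.smul g x)
      exact this
    · intro x hx
      have := congrArg Subtype.val (h3.supp x hx)
      exact this
    · intro x hx
      rw [← h2 x, h4 x hx, hdd]

theorem van_of_surj {H : Type*} [Group H] [MulAction H Ω] [DistribMulAction H D] (φ : G →* H)
    (hφ : Function.Surjective φ) (hΩ : ∀ (g : G) (x : Ω), g • x = φ g • x) (hD : ∀ (g : G) (d : D), g • d = φ g • d)
    {V : Set (Subgroup G)} {V' : Set (Subgroup H)}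
    (hV : ∀ (k : ℕ) (x : Fin (k + 1) → Ω), st G x ∈ V ↔ st H x ∈ V') {n : ℕ} (h : Van H Ω D V' n) :
    Van G Ω D V n := by
  have hs : ∀ (k : ℕ) (g : G) (x : Fin k → Ω), g • x = φ g • x := fun k g x => funext fun i => hΩ g (x i)
  have c1 : ∀ (k : ℕ) (c : (Fin (k + 1) → Ω) → D), IsCoch (G := G) V c → IsCoch (G := H) V' c := by
    intro k c hc
    refine ⟨fun t x => ?_, fun x hx => hc.supp x (fun h' => hx ((hV k x).mp h'))⟩
    obtain ⟨g, rfl⟩ := hφ t
    rw [← hs, hc.smul, hD]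
  have c2 : ∀ (k : ℕ) (c : (Fin (k + 1) → Ω) → D), IsCoch (G := H) V' c → IsCoch (G := G) V c := by
    intro k c hc
    refine ⟨fun g x => ?_, fun x hx => hc.supp x (fun h' => hx ((hV k x).mpr h'))⟩
    rw [hs, hc.smul, hD]
  have c3 : ∀ (k : ℕ) (c : (Fin k → Ω) → D), IsCoc (G := G) V c → IsCoc (G := H) V' c := by
    intro k c hc x hx
    exact hc x ((hV k x).mpr hx)
  cases n with
  | zero => exact fun c hc hc2 x => h c (c1 _ c hc) (c3 _ c hc2) x
  | succ n =>
    intro c hc hc2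
    obtain ⟨b, hb, hb2⟩ := h c (c1 _ c hc) (c3 _ c hc2)
    exact ⟨b, c2 _ b hb, fun x hx => hb2 x ((hV _ x).mp hx)⟩

theorem st_one (x : Fin 1 → Ω) : st G x = stabilizer G (x 0) := by
  ext g
  simp only [MulAction.mem_stabilizer_iff]
  constructor
  · intro h; exact congrFun h 0
  · intro h; funext i; rw [Fin.fin_one_eq_zero i]; exact h

theorem st_two (x : Fin 2 → Ω) : st G x = stabilizer G (x 0) ⊓ stabilizer G (x 1) := by
  ext g
  simp only [MulAction.mem_stabilizer_iff, Subgroup.mem_inf]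
  constructor
  · intro h; exact ⟨congrFun h 0, congrFun h 1⟩
  · rintro ⟨h1, h2⟩; funext i
    fin_cases i
    · exact h1
    · exact h2

theorem st_three (x : Fin 3 → Ω) :
    st G x = stabilizer G (x 0) ⊓ stabilizer G (x 1) ⊓ stabilizer G (x 2) := by
  ext g
  simp only [MulAction.mem_stabilizer_iff, Subgroup.mem_inf]
  constructor
  · intro h; exact ⟨⟨congrFun h 0, congrFun h 1⟩, congrFun h 2⟩
  · rintro ⟨⟨h1, h2⟩, h3⟩; funext i
    fin_cases i
    · exact h1
    · exact h2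
    · exact h3

theorem dd_one (b : (Fin 1 → Ω) → D) (x : Fin 2 → Ω) :
    dd b x = b (fun _ => x 1) - b (fun _ => x 0) := by
  have e0 : (fun j : Fin 1 => x ((0 : Fin 2).succAbove j)) = fun _ => x 1 := by
    funext j; fin_cases j; rfl
  have e1 : (fun j : Fin 1 => x ((1 : Fin 2).succAbove j)) = fun _ => x 0 := by
    funext j; fin_cases j; rfl
  rw [dd, Fin.sum_univ_two]
  simp only [Fin.val_zero, Fin.val_one, pow_zero, pow_one, one_smul, neg_smul, e0, e1]
  abel

theorem dd_two (c : (Fin 2 → Ω) → D) (x : Fin 3 → Ω) :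
    dd c x = c ![x 1, x 2] - c ![x 0, x 2] + c ![x 0, x 1] := by
  have e0 : (fun j : Fin 2 => x ((0 : Fin 3).succAbove j)) = ![x 1, x 2] := by
    funext j; fin_cases j <;> rfl
  have e1 : (fun j : Fin 2 => x ((1 : Fin 3).succAbove j)) = ![x 0, x 2] := by
    funext j; fin_cases j <;> rfl
  have e2 : (fun j : Fin 2 => x ((2 : Fin 3).succAbove j)) = ![x 0, x 1] := by
    funext j; fin_cases j <;> rfl
  rw [dd, Fin.sum_univ_three]
  simp only [Fin.val_zero, Fin.val_one, Fin.val_two, pow_zero, pow_one, one_smul, neg_smul, e0, e1, e2]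
  simp
  abel

theorem vec_two (x : Fin 2 → Ω) : ![x 0, x 1] = x := by
  funext j; fin_cases j <;> rfl

theorem smul_vec_two (g : G) (x y : Ω) : ![g • x, g • y] = g • ![x, y] := by
  funext j; fin_cases j <;> rfl

open Classical in
/-- translation of `Van ... 1` into functions of two points -/
theorem van_one_iff {V : Set (Subgroup G)} (hV : IsUpperSet V) (hVi : IsInv V) :
    Van G Ω D V 1 ↔ ∀ c : Ω → Ω → D, (∀ (g : G) x y, c (g • x) (g • y) = g • c x y) →
      (∀ x y z, stabilizer G x ⊓ stabilizer G y ⊓ stabilizer G z ∈ V → c x z = c x y + c y z) →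
      ∃ v : Ω → D, (∀ (g : G) y, v (g • y) = g • v y) ∧
        ∀ x y, stabilizer G x ⊓ stabilizer G y ∈ V → c x y = v y - v x := by
  constructor
  · intro h c hc hcoc
    set C : (Fin 2 → Ω) → D := fun x => if st G x ∈ V then c (x 0) (x 1) else 0 with hC
    have C1 : ∀ x, st G x ∈ V → C x = c (x 0) (x 1) := fun x hx => if_pos hx
    have hC1 : IsCoch V C := by
      refine ⟨fun g x => ?_, fun x hx => if_neg hx⟩
      simp only [hC, st_smul_mem hVi]
      split_ifs
      · exact hc g (x 0) (x 1)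
      · rw [smul_zero]
    have hC2 : IsCoc (G := G) V C := by
      intro x hx
      have hx3 := hx
      rw [st_three] at hx3
      have h12 : st G ![x 1, x 2] ∈ V := by
        rw [st_two]
        exact hV (le_inf (inf_le_left.trans inf_le_right) inf_le_right) hx3
      have h02 : st G ![x 0, x 2] ∈ V := by
        rw [st_two]
        exact hV (le_inf (inf_le_left.trans inf_le_left) inf_le_right) hx3
      have h01 : st G ![x 0, x 1] ∈ V := by
        rw [st_two]
        exact hV inf_le_left hx3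
      rw [dd_two, C1 _ h12, C1 _ h02, C1 _ h01]
      have := hcoc (x 0) (x 1) (x 2) hx3
      simp only [Matrix.cons_val_zero, Matrix.cons_val_one]
      rw [this]
      abel
    obtain ⟨b, hb, hb2⟩ := h C hC1 hC2
    refine ⟨fun y => b (fun _ => y), fun g y => hb.smul g (fun _ => y), fun x y hxy => ?_⟩
    have h1 : st G ![x, y] ∈ V := by rw [st_two]; exact hxy
    have h2 := hb2 ![x, y] h1
    rw [C1 _ h1, dd_one] at h2
    exact h2
  · intro h c hc hcoc
    obtain ⟨v, hv, hv2⟩ := h (fun x y => c ![x, y]) (fun g x y => by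
      rw [smul_vec_two, hc.smul]) (fun x y z hxyz => by
        have h1 : st G ![x, y, z] ∈ V := by rw [st_three]; exact hxyz
        have h2 := hcoc ![x, y, z] h1
        rw [dd_two] at h2
        simp only [Matrix.cons_val_zero, Matrix.cons_val_one, Matrix.cons_val_two, Matrix.head_cons,
          Matrix.tail_cons] at h2
        have h3 : c ![y, z] - c ![x, z] + c ![x, y] = 0 := h2
        have h4 : c ![x, z] = c ![x, y] + c ![y, z] - (c ![y, z] - c ![x, z] + c ![x, y]) := by abel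
        rw [h3, sub_zero] at h4
        exact h4)
    refine ⟨fun x => if st G x ∈ V then v (x 0) else 0, ⟨fun g x => ?_, fun x hx => if_neg hx⟩, fun x hx => ?_⟩
    · simp only [st_smul_mem hVi]
      split_ifs
      · exact hv g (x 0)
      · rw [smul_zero]
    · have hx2 := hx
      rw [st_two] at hx2
      have h0 : st G (fun _ : Fin 1 => x 0) ∈ V := by
        rw [st_one]; exact hV inf_le_left hx2
      have h1 : st G (fun _ : Fin 1 => x 1) ∈ V := by
        rw [st_one]; exact hV inf_le_right hx2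
      rw [dd_one]
      simp only [if_pos h0, if_pos h1]
      have := hv2 (x 0) (x 1) hx2
      simp only [vec_two] at this
      exact this

/-- A9: it is enough to work with the Sylow orbit -/
theorem van_one_of_orbit {p : ℕ} [Fact p.Prime] [Finite G] [Finite Ω] (hΩ : PSet p G Ω) {V : Set (Subgroup G)}
    (hV : IsUpperSet V) (hVi : IsInv V) (Ω₀ : Finset Ω) (h0 : ∀ (g : G), ∀ y ∈ Ω₀, g • y ∈ Ω₀)
    (hfix : ∀ P : Subgroup G, IsPGroup p P → ∃ y ∈ Ω₀, P ≤ stabilizer G y)
    (c : Ω → Ω → D) (hc : ∀ (g : G) x y, c (g • x) (g • y) = g • c x y)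
    (hcoc : ∀ x y z, stabilizer G x ⊓ stabilizer G y ⊓ stabilizer G z ∈ V → c x z = c x y + c y z)
    (v : Ω → D) (hv : ∀ (g : G), ∀ y ∈ Ω₀, v (g • y) = g • v y)
    (hcv : ∀ x ∈ Ω₀, ∀ y ∈ Ω₀, stabilizer G x ⊓ stabilizer G y ∈ V → c x y = v y - v x) :
    ∃ v' : Ω → D, (∀ (g : G) y, v' (g • y) = g • v' y) ∧
      ∀ x y, stabilizer G x ⊓ stabilizer G y ∈ V → c x y = v' y - v' x := by
  classical
  choose r hr hr2 using fun x : Ω => hfix (stabilizer G x) (hΩ.pgroup x)
  have hinv : ∀ (g : G) (x : Ω), stabilizer G (g • x) ∈ V ↔ stabilizer G x ∈ V := by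
    intro g x
    have := st_smul_mem hVi g (fun _ : Fin 1 => x)
    rw [st_one, st_one] at this
    exact this
  -- independence of the choice
  have key : ∀ x y : Ω, y ∈ Ω₀ → stabilizer G x ≤ stabilizer G y → stabilizer G x ∈ V →
      v y - c x y = v (r x) - c x (r x) := by
    intro x y hy hxy hx
    have h1 : stabilizer G x ⊓ stabilizer G (r x) ⊓ stabilizer G y ∈ V := by
      rw [inf_eq_left.mpr (hr2 x), inf_eq_left.mpr hxy]; exact hx
    rw [hcoc x (r x) y h1, hcv (r x) (hr x) y hy (hV (le_inf (hr2 x) hxy) hx)]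
    abel
  refine ⟨fun x => if stabilizer G x ∈ V then v (r x) - c x (r x) else 0, fun g x => ?_, fun x y hxy => ?_⟩
  · simp only [hinv]
    split_ifs with hx
    · have h1 : stabilizer G (g • x) ≤ stabilizer G (g • r x) := by
        rw [MulAction.stabilizer_smul_eq_stabilizer_map_conj, MulAction.stabilizer_smul_eq_stabilizer_map_conj]
        exact Subgroup.map_mono (hr2 x)
      rw [← key (g • x) (g • r x) (h0 g _ (hr x)) h1 ((hinv g x).mpr hx), hv g _ (hr x), hc, smul_sub]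
    · rw [smul_zero]
  · have hx : stabilizer G x ∈ V := hV inf_le_left hxy
    have hy : stabilizer G y ∈ V := hV inf_le_right hxy
    simp only [if_pos hx, if_pos hy]
    have e1 : c x y = c x (r x) + c (r x) y := by
      apply hcoc
      rw [inf_eq_left.mpr (hr2 x)]; exact hxy
    have e2 : c (r x) y = c (r x) (r y) + c (r y) y := by
      apply hcoc
      refine hV (le_inf (le_inf ?_ ?_) inf_le_right) hxy
      · exact inf_le_left.trans (hr2 x)
      · exact inf_le_right.trans (hr2 y)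
    have e3 : c (r x) (r y) = v (r y) - v (r x) := by
      refine hcv _ (hr x) _ (hr y) (hV (le_inf ?_ ?_) hxy)
      · exact inf_le_left.trans (hr2 x)
      · exact inf_le_right.trans (hr2 y)
    have e4 : c y y = 0 := by
      have := hcoc y y y (by rw [inf_idem, inf_idem]; exact hy)
      have h5 : c y y + 0 = c y y + c y y := by rw [add_zero]; exact this
      exact (add_left_cancel h5).symm
    have e5 : c y y = c y (r y) + c (r y) y := by
      apply hcoc
      rw [inf_eq_left.mpr (hr2 y), inf_idem]; exact hy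
    have e6 : c (r y) y = - c y (r y) := by
      rw [e4] at e5
      exact (neg_eq_of_add_eq_zero_right e5.symm).symm
    rw [e1, e2, e3, e6]
    abel

end Cfsg.Agent.H539.Lim
end

-- part: H71/Lim/TvDef
section
/-!
# Transvections (S5242, piece C1; helper71, helper539)
-/

set_option autoImplicit false

namespace Cfsg.Agent.H71.Lim

/-- `a` acts as a transvection `d ↦ d + f(d) z` -/
structure Tv {G : Type*} [Group G] {D : Type*} [AddCommGroup D] [DistribMulAction G D] (a : G)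
    (f : D →+ ZMod 2) (z : D) : Prop where
  ne_one : a ≠ 1
  sq : a * a = 1
  z_ne : z ≠ 0
  two_z : z + z = 0
  f_ne : f ≠ 0
  fz : f z = 0
  act : ∀ d : D, a • d = d + (f d).val • z

end Cfsg.Agent.H71.Lim
end

-- part: H71/Lim/COne
section
/-!
# Minimal best offenders for `p = 2` (S5242, piece C1; helper71)

* `exists_good_or_tv` : a nontrivial best offender contains a nontrivial norm-good best offender or a transvection;
* `bo_same_axis` : two transvections with the same functional generate a norm-good best offender;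
* `Tv.bo` : a transvection generates a best offender.
-/

set_option autoImplicit false
set_option linter.unusedVariables false
set_option linter.unusedSectionVars false

namespace Cfsg.Agent.H71.Lim

open Cfsg.Agent.H539.Lim

universe u w

variable {G : Type u} [Group G] {D : Type w} [AddCommGroup D] [DistribMulAction G D]

/-! ### Elements acting as `d ↦ d + f(d) w` -/

theorem val_add_smul {w : D} (hw : w + w = 0) (x y : ZMod 2) : (x + y).val • w = x.val • w + y.val • w := by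
  have h : ∀ x y : ZMod 2, (x + y).val = x.val + y.val ∨ (x = 1 ∧ y = 1) := by decide
  rcases h x y with h1 | ⟨rfl, rfl⟩
  · rw [h1, add_smul]
  · rw [show ((1 + 1 : ZMod 2)).val = 0 from rfl, show ((1 : ZMod 2)).val = 1 from rfl, zero_smul, one_smul, hw]

theorem zmod_two (x : ZMod 2) : x = 0 ∨ x = 1 := by
  revert x
  decide

/-- `g` acts as `d ↦ d + f(d) w` for some `w` -/
def Ax (f : D →+ ZMod 2) (g : G) : Prop := ∃ w : D, f w = 0 ∧ w + w = 0 ∧ ∀ d : D, g • d = d + (f d).val • w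

variable {f : D →+ ZMod 2}

theorem Ax.one : Ax f (1 : G) := ⟨0, map_zero f, add_zero 0, fun d => by rw [one_smul, smul_zero, add_zero]⟩

theorem Ax.mul {g h : G} (hg : Ax f g) (hh : Ax f h) : Ax f (g * h) := by
  obtain ⟨w, h1, h2, h3⟩ := hg
  obtain ⟨w', h1', h2', h3'⟩ := hh
  refine ⟨w + w', by rw [map_add, h1, h1', add_zero], by rw [add_add_add_comm, h2, h2', add_zero], fun d => ?_⟩
  have h4 : f (d + (f d).val • w') = f d := by rw [map_add, map_nsmul, h1', smul_zero, add_zero]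
  rw [mul_smul, h3', h3, h4, smul_add]
  abel

theorem Ax.inv {g : G} (hg : Ax f g) : Ax f g⁻¹ := by
  obtain ⟨w, h1, h2, h3⟩ := hg
  refine ⟨w, h1, h2, fun d => ?_⟩
  rw [inv_smul_eq_iff, h3]
  have h4 : f (d + (f d).val • w) = f d := by rw [map_add, map_nsmul, h1, smul_zero, add_zero]
  rw [h4, add_assoc, ← smul_add, h2, smul_zero, add_zero]

theorem Tv.ax {a : G} {z : D} (h : Tv a f z) : Ax f a := ⟨z, h.fz, h.two_z, h.act⟩

/-- a nontrivial element fixes exactly the kernel of `f` -/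
theorem Ax.fix_iff {g : G} (hg : Ax f g) (hne : ¬ ∀ d : D, g • d = d) (d : D) : g • d = d ↔ f d = 0 := by
  obtain ⟨w, h1, h2, h3⟩ := hg
  have hw : w ≠ 0 := by
    rintro rfl
    exact hne fun d => by rw [h3, smul_zero, add_zero]
  rw [h3]
  rcases zmod_two (f d) with h | h <;> rw [h]
  · rw [show ((0 : ZMod 2)).val = 0 from rfl, zero_smul, add_zero]
    simp
  · rw [show ((1 : ZMod 2)).val = 1 from rfl, one_smul]
    constructor
    · intro h4
      exact absurd (left_eq_add.1 h4.symm) hw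
    · intro h4
      exact absurd h4 (by decide)

/-- the index of the kernel -/
theorem card_ker [Finite D] (hf : f ≠ 0) : Nat.card D = 2 * Nat.card f.ker := by
  have h1 : Function.Surjective f := by
    obtain ⟨d, hd⟩ : ∃ d, f d ≠ 0 := by
      by_contra hcon
      push Not at hcon
      exact hf (by ext d; exact hcon d)
    intro x
    rcases zmod_two x with rfl | rfl
    · exact ⟨0, map_zero f⟩
    · exact ⟨d, (zmod_two (f d)).resolve_left hd⟩
  have h2 := f.ker.card_mul_index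
  rw [AddSubgroup.index_ker, AddMonoidHom.range_eq_top.2 h1] at h2
  have h3 : Nat.card (⊤ : AddSubgroup (ZMod 2)) = 2 := by
    rw [AddSubgroup.card_top]
    simp
  rw [h3] at h2
  omega

theorem DFix_bot : (DFix (⊥ : Subgroup G) D) = ⊤ := by
  rw [eq_top_iff]
  intro d _ u hu
  rw [Subgroup.mem_bot.1 hu, one_smul]

theorem card_DFix_bot : Nat.card (DFix (⊥ : Subgroup G) D) = Nat.card D := by
  rw [DFix_bot]
  exact AddSubgroup.card_top

theorem DFix_anti {A B : Subgroup G} (h : B ≤ A) : DFix A D ≤ DFix B D := fun _ hd u hu => hd u (h hu)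

section axis

variable {K : Subgroup G} (hK : ∀ g ∈ K, Ax f g) (hfaith : ∀ g ∈ K, (∀ d : D, g • d = d) → g = 1)

include hK hfaith

/-- the fixed points of a nontrivial subgroup -/
theorem DFix_eq {B : Subgroup G} (hB : B ≤ K) (hne : B ≠ ⊥) : DFix B D = f.ker := by
  ext d
  rw [AddMonoidHom.mem_ker]
  constructor
  · intro hd
    obtain ⟨⟨u, hu⟩, hu0⟩ := Subgroup.ne_bot_iff_exists_ne_one.1 hne
    have hu1 : u ≠ 1 := fun h => hu0 (Subtype.ext h)
    exact ((hK u (hB hu)).fix_iff (fun h => hu1 (hfaith u (hB hu) h)) d).1 (hd u hu)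
  · intro hd u hu
    by_cases h1 : ∀ d : D, u • d = d
    · exact h1 d
    · exact ((hK u (hB hu)).fix_iff h1 d).2 hd

theorem isAb_axis : IsAb K := by
  intro a ha b hb
  have h1 : a * b * (b * a)⁻¹ = 1 := by
    apply hfaith _ (mul_mem (mul_mem ha hb) (inv_mem (mul_mem hb ha)))
    intro d
    obtain ⟨w, h1, h2, h3⟩ := hK a ha
    obtain ⟨w', h1', h2', h3'⟩ := hK b hb
    have h4 : ∀ d : D, (a * b) • d = (b * a) • d := by
      intro d
      have h5 : f (d + (f d).val • w') = f d := by rw [map_add, map_nsmul, h1', smul_zero, add_zero]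
      have h6 : f (d + (f d).val • w) = f d := by rw [map_add, map_nsmul, h1, smul_zero, add_zero]
      rw [mul_smul, mul_smul, h3', h3, h3, h3', h5, h6]
      abel
    rw [mul_smul, h4, smul_inv_smul]
  exact mul_inv_eq_one.1 h1

theorem bo_axis [Finite G] [Finite D] (hf : f ≠ 0) (hne : K ≠ ⊥) : BO D K := by
  refine ⟨isAb_axis hK hfaith, fun B hB => ?_⟩
  rw [DFix_eq hK hfaith le_rfl hne]
  by_cases hB1 : B = ⊥
  · rw [hB1, card_DFix_bot, Subgroup.card_bot, one_mul, card_ker hf]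
    have h2 : 1 < Nat.card K := by
      rw [Subgroup.one_lt_card_iff_ne_bot]
      exact hne
    exact Nat.mul_le_mul_right _ h2
  · rw [DFix_eq hK hfaith hB hB1]
    exact Nat.mul_le_mul_right _ (Subgroup.card_le_of_le hB)

theorem ngood_axis [Finite G] (hcard : Nat.card K ≠ 2) : NGood 2 D K := by
  intro M hM hi z hz _ a ha _
  have hM1 : M ≠ ⊥ := by
    rintro rfl
    rw [Subgroup.relIndex_bot_left] at hi
    exact hcard hi
  have h1 : z ∈ DFix M D := hz
  rw [DFix_eq hK hfaith hM hM1] at h1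
  have hK1 : K ≠ ⊥ := fun h => hM1 (le_bot_iff.1 (h ▸ hM))
  rw [← DFix_eq hK hfaith le_rfl hK1] at h1
  rw [Finset.sum_range_succ, Finset.sum_range_succ, Finset.sum_range_zero, zero_add, pow_zero, one_smul, pow_one,
    h1 a ha, two_smul]

end axis

/-- **Two different transvections with the same functional generate a good best offender.** -/
theorem bo_same_axis [Finite G] [Finite D] {a b : G} {f : D →+ ZMod 2} {z t : D} (ha : Tv a f z) (hb : Tv b f t)
    (hab : a * b = b * a) (hne : a ≠ b) (hfaith : ∀ g ∈ Subgroup.closure {a, b}, (∀ d : D, g • d = d) → g = 1) :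
    BO D (Subgroup.closure {a, b}) ∧ NGood 2 D (Subgroup.closure {a, b}) ∧ z ≠ t := by
  have hK : ∀ g ∈ Subgroup.closure {a, b}, Ax f g := by
    intro g hg
    induction hg using Subgroup.closure_induction with
    | mem x hx =>
      rcases hx with rfl | rfl
      · exact ha.ax
      · exact hb.ax
    | one => exact Ax.one
    | mul x y _ _ hx hy => exact hx.mul hy
    | inv x _ hx => exact hx.inv
  have haK : a ∈ Subgroup.closure {a, b} := Subgroup.subset_closure (Set.mem_insert _ _)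
  have hbK : b ∈ Subgroup.closure {a, b} := Subgroup.subset_closure (Set.mem_insert_of_mem _ rfl)
  have hK1 : Subgroup.closure {a, b} ≠ ⊥ := by
    intro h
    rw [h, Subgroup.mem_bot] at haK
    exact ha.ne_one haK
  refine ⟨bo_axis hK hfaith ha.f_ne hK1, ngood_axis hK hfaith ?_, ?_⟩
  · intro h2
    rw [Nat.card_eq_two_iff' (1 : ↥(Subgroup.closure {a, b}))] at h2
    obtain ⟨y, -, hy⟩ := h2
    have h3 := hy ⟨a, haK⟩ (fun h => ha.ne_one (congrArg Subtype.val h))
    have h4 := hy ⟨b, hbK⟩ (fun h => hb.ne_one (congrArg Subtype.val h))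
    exact hne (congrArg Subtype.val (h3.trans h4.symm))
  · intro hzt
    apply hne
    have h1 : a * b⁻¹ = 1 := by
      apply hfaith _ (mul_mem haK (inv_mem hbK))
      intro d
      rw [mul_smul, show b⁻¹ = b from inv_eq_of_mul_eq_one_left hb.sq, ← mul_smul]
      have h5 : f (d + (f d).val • t) = f d := by rw [map_add, map_nsmul, hb.fz, smul_zero, add_zero]
      rw [mul_smul, hb.act, ha.act, h5, hzt, add_assoc, ← smul_add, hb.two_z, smul_zero, add_zero]
    exact mul_inv_eq_one.1 h1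

/-- **A transvection generates a best offender.** -/
theorem Tv.bo [Finite G] [Finite D] {a : G} {f : D →+ ZMod 2} {z : D} (h : Tv a f z) : BO D (Subgroup.zpowers a) := by
  have hmem : ∀ g ∈ Subgroup.zpowers a, g = 1 ∨ g = a := by
    intro g hg
    obtain ⟨k, rfl⟩ := Subgroup.mem_zpowers_iff.1 hg
    rcases Int.even_or_odd' k with ⟨j, rfl | rfl⟩
    · left
      rw [zpow_mul, show a ^ (2 : ℤ) = 1 from by rw [show (2 : ℤ) = ((2 : ℕ) : ℤ) from rfl, zpow_natCast, pow_two, h.sq],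
        one_zpow]
    · right
      rw [zpow_add, zpow_mul, show a ^ (2 : ℤ) = 1 from by
        rw [show (2 : ℤ) = ((2 : ℕ) : ℤ) from rfl, zpow_natCast, pow_two, h.sq], one_zpow, one_mul, zpow_one]
  refine bo_axis (f := f) (fun g hg => ?_) (fun g hg hd => ?_) h.f_ne ?_
  · rcases hmem g hg with rfl | rfl
    · exact Ax.one
    · exact h.ax
  · rcases hmem g hg with rfl | rfl
    · rfl
    · exfalso
      apply h.f_ne
      ext d
      have h1 := hd d
      rw [h.act] at h1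
      rcases zmod_two (f d) with h2 | h2
      · exact h2
      · rw [h2, show ((1 : ZMod 2)).val = 1 from rfl, one_smul] at h1
        exact absurd (left_eq_add.1 h1.symm) h.z_ne
  · intro h1
    exact h.ne_one (Subgroup.zpowers_eq_bot.1 h1)

/-! ### Minimal best offenders -/

/-- trivial action: best offender and norm-good -/
theorem good_of_triv [Finite G] [Finite D] {B : Subgroup G} (hab : IsAb B) (h : ∀ b ∈ B, ∀ d : D, b • d = d) :
    BO D B ∧ NGood 2 D B := by
  have h1 : ∀ C : Subgroup G, C ≤ B → Nat.card (DFix C D) = Nat.card D := by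
    intro C hC
    have : DFix C D = ⊤ := by
      rw [eq_top_iff]
      intro d _ u hu
      exact h u (hC hu) d
    rw [this]
    exact AddSubgroup.card_top
  refine ⟨⟨hab, fun C hC => ?_⟩, ?_⟩
  · rw [h1 C hC, h1 B le_rfl]
    exact Nat.mul_le_mul_right _ (Subgroup.card_le_of_le hC)
  · intro M _ _ z _ _ a ha _
    rw [Finset.sum_range_succ, Finset.sum_range_succ, Finset.sum_range_zero, zero_add, pow_zero, one_smul, pow_one,
      h a ha, two_smul]

/-- **Minimal nontrivial best offenders.** -/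
theorem exists_good_or_tv [Finite G] [Finite D] (hD : IsPTors 2 D) {A : Subgroup G} (hA : IsPGroup 2 A)
    (hAB : BO D A) (h1 : A ≠ ⊥) :
    (∃ B : Subgroup G, B ≤ A ∧ B ≠ ⊥ ∧ BO D B ∧ NGood 2 D B) ∨
      ∃ a ∈ A, ∃ (f : D →+ ZMod 2) (z : D), Tv a f z := by
  by_cases htriv : ∃ B : Subgroup G, B ≤ A ∧ B ≠ ⊥ ∧ ∀ b ∈ B, ∀ d : D, b • d = d
  · obtain ⟨B, hBA, hB1, hB⟩ := htriv
    have h2 := good_of_triv (D := D) (B := B) (fun a ha b hb => hAB.1 a (hBA ha) b (hBA hb)) hB
    exact Or.inl ⟨B, hBA, hB1, h2.1, h2.2⟩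
  push Not at htriv
  -- a minimal nontrivial best offender
  obtain ⟨C, ⟨hCA, hC1, hCB⟩, hmin⟩ := Set.Finite.exists_minimal
    (s := {B : Subgroup G | B ≤ A ∧ B ≠ ⊥ ∧ BO D B}) (Set.toFinite _) ⟨A, le_rfl, h1, hAB⟩
  have hCD : Nat.card D ≤ Nat.card C * Nat.card (DFix C D) := by
    have := hCB.2 ⊥ bot_le
    rwa [Subgroup.card_bot, one_mul, card_DFix_bot] at this
  have hlt : ∀ B : Subgroup G, B ≤ C → B ≠ ⊥ → B ≠ C → Nat.card B * Nat.card (DFix B D) < Nat.card D := by
    intro B hBC hB1 hBne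
    by_contra hcon
    rw [not_lt] at hcon
    obtain ⟨B', ⟨hB'B, hB'1⟩, hmax⟩ := Set.exists_max_image {B' : Subgroup G | B' ≤ B ∧ B' ≠ ⊥}
      (fun B' => Nat.card B' * Nat.card (DFix B' D)) (Set.toFinite _) ⟨B, le_rfl, hB1⟩
    have hbo : BO D B' := by
      refine ⟨fun a ha b hb => hCB.1 a (hBC (hB'B ha)) b (hBC (hB'B hb)), fun E hE => ?_⟩
      by_cases hE1 : E = ⊥
      · rw [hE1, Subgroup.card_bot, one_mul, card_DFix_bot]
        exact hcon.trans (hmax B ⟨le_rfl, hB1⟩)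
      · exact hmax E ⟨hE.trans hB'B, hE1⟩
    have h3 : C ≤ B' := hmin ⟨(hB'B.trans hBC).trans hCA, hB'1, hbo⟩ (hB'B.trans hBC)
    exact hBne (le_antisymm hBC (h3.trans hB'B))
  by_cases hcard : Nat.card C = 2
  · -- a transvection
    right
    obtain ⟨⟨a, haC⟩, ha0⟩ := Subgroup.ne_bot_iff_exists_ne_one.1 hC1
    have ha1 : a ≠ 1 := fun h => ha0 (Subtype.ext h)
    have hmem : ∀ g ∈ C, g = 1 ∨ g = a := by
      intro g hg
      by_contra hcon
      push Not at hcon
      rw [Nat.card_eq_two_iff' (1 : C)] at hcard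
      obtain ⟨y, -, hy⟩ := hcard
      have h3 := hy ⟨a, haC⟩ ha0
      have h4 := hy ⟨g, hg⟩ (fun h => hcon.1 (congrArg Subtype.val h))
      exact hcon.2 (congrArg Subtype.val (h4.trans h3.symm))
    have hsq : a * a = 1 := by
      rcases hmem _ (mul_mem haC haC) with h | h
      · exact h
      · exact absurd (mul_eq_left.1 h) ha1
    have hfix : ∀ d : D, d ∈ DFix C D ↔ a • d = d := by
      intro d
      refine ⟨fun h => h a haC, fun h u hu => ?_⟩
      rcases hmem u hu with rfl | rfl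
      · exact one_smul _ _
      · exact h
    -- the image of `d ↦ a d - d`
    let φ : D →+ D := DistribSMul.toAddMonoidHom D a - AddMonoidHom.id D
    have hφ : ∀ d, φ d = a • d - d := fun d => rfl
    have hker : φ.ker = DFix C D := by
      ext d
      rw [AddMonoidHom.mem_ker, hfix, hφ, sub_eq_zero]
    have hr : Nat.card φ.range ≤ 2 := by
      have h3 := φ.ker.card_mul_index
      rw [AddSubgroup.index_ker, hker] at h3
      rw [hcard, ← h3, mul_comm] at hCD
      have h4 : 0 < Nat.card (DFix C D) := Nat.card_pos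
      exact Nat.le_of_mul_le_mul_right hCD h4
    obtain ⟨z, hz, hz0⟩ : ∃ z ∈ φ.range, z ≠ 0 := by
      obtain ⟨b, hb, d, hd⟩ := htriv C hCA hC1
      have hba : b = a := (hmem b hb).resolve_left (by rintro rfl; exact hd (one_smul _ _))
      subst hba
      exact ⟨φ d, ⟨d, rfl⟩, by rw [hφ, sub_ne_zero]; exact hd⟩
    have hrz : ∀ y ∈ φ.range, y = 0 ∨ y = z := by
      intro y hy
      by_contra hcon
      push Not at hcon
      have h3 : ({0, z, y} : Set D).ncard = 3 :=
        Set.ncard_eq_three.2 ⟨0, z, y, hz0.symm, hcon.1.symm, hcon.2.symm, rfl⟩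
      have h4 : ({0, z, y} : Set D) ⊆ (φ.range : Set D) := by
        rintro x (rfl | rfl | rfl)
        · exact zero_mem _
        · exact hz
        · exact hy
      have h5 := Set.ncard_le_ncard h4 (Set.toFinite _)
      have h6 : (φ.range : Set D).ncard = Nat.card φ.range := rfl
      omega
    have h2z : z + z = 0 := (hrz _ (add_mem hz hz)).resolve_right (fun h => hz0 (add_eq_left.1 h))
    have haz : a • z = z := by
      obtain ⟨d, hd⟩ := hz
      rw [hφ] at hd
      have h3 : a • z = -z := by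
        rw [← hd, smul_sub, smul_smul, hsq, one_smul, neg_sub]
      rw [h3]
      exact neg_eq_of_add_eq_zero_left h2z
    have hact : ∀ d, a • d = d ∨ a • d = d + z := by
      intro d
      rcases hrz (φ d) ⟨d, rfl⟩ with h | h
      · left
        rw [hφ, sub_eq_zero] at h
        exact h
      · right
        rw [hφ, sub_eq_iff_eq_add] at h
        rw [h, add_comm]
    have hcase : ∀ d, ∃ x : ZMod 2, a • d = d + x.val • z ∧ (x = 0 ↔ a • d = d) := by
      intro d
      rcases hact d with h | h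
      · exact ⟨0, by rw [show ((0 : ZMod 2)).val = 0 from rfl, zero_smul, add_zero]; exact h, by simp [h]⟩
      · refine ⟨1, by rw [show ((1 : ZMod 2)).val = 1 from rfl, one_smul]; exact h, ?_⟩
        constructor
        · intro h3; exact absurd h3 (by decide)
        · intro h3
          rw [h3] at h
          exact absurd (left_eq_add.1 h) hz0
    choose F hF hF0 using hcase
    have huniq : ∀ (d : D) (x : ZMod 2), a • d = d + x.val • z → F d = x := by
      intro d x hx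
      have h3 := (hF d).symm.trans hx
      have h4 := add_left_cancel h3
      rcases zmod_two (F d) with h5 | h5 <;> rcases zmod_two x with h6 | h6 <;> rw [h5, h6] at h4 ⊢
      · rw [show ((0 : ZMod 2)).val = 0 from rfl, show ((1 : ZMod 2)).val = 1 from rfl, zero_smul, one_smul] at h4
        exact absurd h4.symm hz0
      · rw [show ((0 : ZMod 2)).val = 0 from rfl, show ((1 : ZMod 2)).val = 1 from rfl, zero_smul, one_smul] at h4
        exact absurd h4 hz0
    let f : D →+ ZMod 2 :=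
      { toFun := F
        map_zero' := huniq 0 0 (by rw [smul_zero, show ((0 : ZMod 2)).val = 0 from rfl, zero_smul, add_zero])
        map_add' := fun x y => huniq _ _ (by
          rw [smul_add, hF x, hF y, val_add_smul h2z]
          abel) }
    refine ⟨a, hCA haC, f, z, ha1, hsq, hz0, h2z, ?_, (hF0 z).2 haz, hF⟩
    intro hf0
    obtain ⟨d, hd⟩ := hz
    apply hz0
    rw [← hd, hφ, sub_eq_zero]
    exact (hF0 d).1 (congrFun (congrArg DFunLike.coe hf0) d)
  · left
    refine ⟨C, hCA, hC1, hCB, ?_⟩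
    intro M hM hi z hz _ a ha haM
    have hM1 : M ≠ ⊥ := by
      rintro rfl
      rw [Subgroup.relIndex_bot_left] at hi
      exact hcard hi
    have hMC : M ≠ C := by
      rintro rfl
      exact haM ha
    have h3 := hlt M hM hM1 hMC
    have h4 : Nat.card C = Nat.card M * 2 := by
      have h5 := Subgroup.relIndex_mul_relIndex ⊥ M C bot_le hM
      rw [Subgroup.relIndex_bot_left, Subgroup.relIndex_bot_left, hi] at h5
      exact h5.symm
    have h5 : DFix C D = DFix M D := by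
      have h6 := DFix_anti (D := D) hM
      apply AddSubgroup.eq_of_le_of_card_ge h6
      have h7 : Nat.card (DFix C D) ∣ Nat.card (DFix M D) := AddSubgroup.card_dvd_of_le h6
      obtain ⟨c, hc⟩ := h7
      have h8 : 0 < Nat.card M := Nat.card_pos
      have h9 : 0 < Nat.card (DFix C D) := Nat.card_pos
      have h10 : Nat.card M * (Nat.card (DFix C D) * c) < Nat.card M * 2 * Nat.card (DFix C D) := by
        rw [← hc, ← h4]
        exact h3.trans_le hCD
      have h11 : c < 2 := by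
        by_contra hcon
        have h12 : Nat.card M * Nat.card (DFix C D) * 2 ≤ Nat.card M * Nat.card (DFix C D) * c :=
          Nat.mul_le_mul_left _ (by omega)
        nlinarith
      rw [hc]
      calc Nat.card (DFix C D) * c ≤ Nat.card (DFix C D) * 1 := Nat.mul_le_mul_left _ (by omega)
        _ = _ := mul_one _
    have h6 : z ∈ DFix C D := by
      rw [h5]
      exact hz
    rw [Finset.sum_range_succ, Finset.sum_range_succ, Finset.sum_range_zero, zero_add, pow_zero, one_smul, pow_one,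
      h6 a ha, two_smul]

end Cfsg.Agent.H71.Lim
end

-- part: H16/Lim/Red
section
/-!
# Claim T, reduction to `2 c = 0` (helper16, for S5242, task C3)

* `twoPt` : the norm theorem for two-point functions on a Sylow orbit with values in a submodule;
* `reduceTwo`.
-/

set_option autoImplicit false
set_option linter.unusedSectionVars false
set_option linter.unusedVariables false

namespace Cfsg.Agent.H16.Lim

open MulAction Cfsg.Agent.H539.Lim
open Cfsg.Agent.H309.Lim (van_Q)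

universe u v w

section Tv

variable {G : Type u} [Group G] {D : Type w} [AddCommGroup D] [DistribMulAction G D]

theorem tv_iff {a : G} {f : D →+ ZMod 2} {z : D} : Cfsg.Agent.H71.Lim.Tv a f z ↔ Tv a f z :=
  ⟨fun h => ⟨h.ne_one, h.sq, h.z_ne, h.two_z, h.f_ne, h.fz, h.act⟩,
    fun h => ⟨h.ne_one, h.sq, h.z_ne, h.two_z, h.f_ne, h.fz, h.act⟩⟩

theorem exists_good_or_tv [Finite G] [Finite D] (hD : IsPTors 2 D) {A : Subgroup G} (hA : IsPGroup 2 A)
    (hAB : BO D A) (h1 : A ≠ ⊥) :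
    (∃ B : Subgroup G, B ≤ A ∧ B ≠ ⊥ ∧ BO D B ∧ NGood 2 D B) ∨
      ∃ a ∈ A, ∃ (f : D →+ ZMod 2) (z : D), Tv a f z := by
  rcases Cfsg.Agent.H71.Lim.exists_good_or_tv hD hA hAB h1 with h | ⟨a, ha, f, z, h⟩
  · exact Or.inl h
  · exact Or.inr ⟨a, ha, f, z, tv_iff.1 h⟩

theorem bo_of_tv [Finite G] [Finite D] {a : G} {f : D →+ ZMod 2} {z : D} (h : Tv a f z) :
    BO D (Subgroup.zpowers a) := (tv_iff.2 h).bo

end Tv

section Sub

variable {G : Type u} [Group G] {Ω : Type v} [MulAction G Ω] {D : Type w} [AddCommGroup D]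
  [DistribMulAction G D]

/-- norm-good on a subgroup `S` of `D` -/
def NGoodS (p : ℕ) (S : AddSubgroup D) (A : Subgroup G) : Prop :=
  ∀ M : Subgroup G, M ≤ A → M.relIndex A = p → ∀ z ∈ S, (∀ m ∈ M, m • z = z) →
    (∀ a ∈ A, a • (p • z) = p • z) → ∀ a ∈ A, a ∉ M → ∑ i ∈ Finset.range p, a ^ i • z = p • z

theorem NGoodS.of {p : ℕ} (S : AddSubgroup D) {A : Subgroup G} (h : NGood p D A) : NGoodS p S A :=
  fun M hM hi z _ h1 h2 a ha haM => h M hM hi z h1 h2 a ha haM

/-- the action on a stable subgroup -/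
@[reducible] def actS (S : AddSubgroup D) (hS : ∀ g : G, ∀ d ∈ S, g • d ∈ S) : DistribMulAction G S where
  smul g d := ⟨g • d.1, hS g _ d.2⟩
  one_smul d := Subtype.ext (one_smul G d.1)
  mul_smul a b d := Subtype.ext (mul_smul a b d.1)
  smul_zero g := Subtype.ext (smul_zero g)
  smul_add g a b := Subtype.ext (smul_add g a.1 b.1)

/-- the action on a stable set of points -/
@[reducible] def actO (Ω₀ : Finset Ω) (h : ∀ g : G, ∀ y ∈ Ω₀, g • y ∈ Ω₀) : MulAction G {y // y ∈ Ω₀} where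
  smul g y := ⟨g • y.1, h g _ y.2⟩
  one_smul y := Subtype.ext (one_smul G y.1)
  mul_smul a b y := Subtype.ext (mul_smul a b y.1)

/-- **the norm theorem, two-point functions on a Sylow orbit** -/
theorem twoPt [Finite G] [Finite D] (hD : IsPTors 2 D) {Ω₀ : Finset Ω} (h0 : Orb2 G Ω₀)
    (S : AddSubgroup D) (hS : ∀ g : G, ∀ d ∈ S, g • d ∈ S) (𝒜 : Set (Subgroup G)) (hi : IsInv 𝒜)
    (hp : ∀ A ∈ 𝒜, IsPGroup 2 A) (hg : ∀ A ∈ 𝒜, NGoodS 2 S A) (c : Ω → Ω → D)
    (hcS : ∀ x ∈ Ω₀, ∀ y ∈ Ω₀, c x y ∈ S) (hc : ∀ g : G, ∀ x ∈ Ω₀, ∀ y ∈ Ω₀, c (g • x) (g • y) = g • c x y)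
    (hcoc : ∀ x ∈ Ω₀, ∀ y ∈ Ω₀, ∀ z ∈ Ω₀, (∃ A ∈ 𝒜, A ≤ stabilizer G x ⊓ stabilizer G y ⊓ stabilizer G z) →
      c x z = c x y + c y z) :
    ∃ v : Ω → D, (∀ y, v y ∈ S) ∧ (∀ g : G, ∀ y ∈ Ω₀, v (g • y) = g • v y) ∧
      ∀ x ∈ Ω₀, ∀ y ∈ Ω₀, (∃ A ∈ 𝒜, A ≤ stabilizer G x ⊓ stabilizer G y) → c x y = v y - v x := by
  classical
  have : Fact (Nat.Prime 2) := ⟨Nat.prime_two⟩
  let iS := actS S hS
  let iO := actO Ω₀ h0.smul_mem
  have hst : ∀ x : {y // y ∈ Ω₀}, stabilizer G x = stabilizer G x.1 := by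
    intro x
    ext g
    rw [mem_stabilizer_iff, mem_stabilizer_iff]
    exact Subtype.ext_iff
  have hPS : PSet 2 G {y // y ∈ Ω₀} := by
    refine ⟨fun x => ?_, fun P hP => ?_⟩
    · rw [hst]
      exact isPGroup_of_orb h0 x.2
    · obtain ⟨x, hx, h1⟩ := exists_fix_orb h0 hP
      exact ⟨⟨x, hx⟩, by rw [hst]; exact h1⟩
  have hDS : IsPTors 2 S := fun d => by
    obtain ⟨k, hk⟩ := hD d.1
    exact ⟨k, Subtype.ext hk⟩
  have hng : ∀ A ∈ 𝒜, NGood 2 S A := by
    intro A hA M hM hi z h1 h2 a ha haM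
    apply Subtype.ext
    have h3 := hg A hA M hM hi z.1 z.2 (fun m hm => congrArg Subtype.val (h1 m hm))
      (fun b hb => congrArg Subtype.val (h2 b hb)) a ha haM
    rw [AddSubgroup.coe_nsmul, ← h3, AddSubgroup.val_finsetSum]
    rfl
  have hV1 : IsUpperSet {P : Subgroup G | ∃ A ∈ 𝒜, A ≤ P} := fun P Q h ⟨A, hA, h1⟩ => ⟨A, hA, h1.trans h⟩
  have hV2 : IsInv {P : Subgroup G | ∃ A ∈ 𝒜, A ≤ P} := fun g P ⟨A, hA, h1⟩ => ⟨_, hi g A hA, cj_mono g h1⟩
  have h1 := van_Q hPS hDS 𝒜 hi hp hng 0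
  obtain ⟨v, hv1, hv2⟩ := (van_one_iff hV1 hV2).1 h1 (fun x y => ⟨c x.1 y.1, hcS _ x.2 _ y.2⟩)
    (fun g x y => Subtype.ext (hc g _ x.2 _ y.2)) (fun x y z h => Subtype.ext (by
      rw [hst, hst, hst] at h
      exact hcoc _ x.2 _ y.2 _ z.2 h))
  obtain ⟨v', e1, e2⟩ : ∃ v' : Ω → D, (∀ y (h : y ∈ Ω₀), v' y = v ⟨y, h⟩) ∧ ∀ y, y ∉ Ω₀ → v' y = 0 :=
    ⟨fun y => if h : y ∈ Ω₀ then (v ⟨y, h⟩ : D) else 0, fun y h => dif_pos h, fun y h => dif_neg h⟩
  refine ⟨v', fun y => ?_, fun g y hy => ?_, fun x hx y hy h => ?_⟩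
  · by_cases h : y ∈ Ω₀
    · rw [e1 y h]
      exact (v ⟨y, h⟩).2
    · rw [e2 y h]
      exact S.zero_mem
  · rw [e1 y hy, e1 _ (h0.smul_mem g y hy)]
    exact congrArg Subtype.val (hv1 g ⟨y, hy⟩)
  · rw [e1 x hx, e1 y hy]
    exact congrArg Subtype.val (hv2 ⟨x, hx⟩ ⟨y, hy⟩ (by rw [hst, hst]; exact h))

end Sub

section Main

variable {G : Type u} [Group G] [Finite G] {Ω : Type v} [MulAction G Ω] [Finite Ω] {D : Type w} [AddCommGroup D]
  [DistribMulAction G D] [Finite D]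

/-- the subgroups `⟨a⟩`, `a` a transvection, and the norm-good best offenders -/
def AA (G : Type u) [Group G] (D : Type w) [AddCommGroup D] [DistribMulAction G D] : Set (Subgroup G) :=
  {A | IsPGroup 2 A ∧ A ≠ ⊥ ∧ BO D A ∧ (NGood 2 D A ∨ ∀ t ∈ A, ∀ d : D, t • (2 • d) = 2 • d)}

theorem isInv_AA : IsInv (AA G D) := by
  rintro g A ⟨h1, h2, h3, h4⟩
  refine ⟨isPGroup_cj h1 g, cj_ne_bot h2, bo_cj h3 g, ?_⟩
  rcases h4 with h4 | h4
  · exact Or.inl (ngood_cj h4 g)
  · refine Or.inr fun t ht d => ?_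
    rw [mem_cj] at ht
    have h5 : t • (2 • d) = g • (g⁻¹ * t * g) • (2 • (g⁻¹ • d)) := by
      rw [← smul_comm g⁻¹ 2 d, smul_smul, smul_smul]
      congr 1
      group
    rw [h5, h4 _ ht, smul_comm g 2, smul_inv_smul]

theorem mem_Q0_iff (hD : IsPTors 2 D) {P : Subgroup G} (hP : IsPGroup 2 P) :
    P ∈ Q0 G D ↔ ∃ A ∈ AA G D, A ≤ P := by
  constructor
  · rintro ⟨A, hA, h1, h2⟩
    rcases exists_good_or_tv hD (hP.to_le hA) h2 h1 with ⟨B, hB, h3, h4, h5⟩ | ⟨a, ha, f, z, h3⟩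
    · exact ⟨B, ⟨hP.to_le (hB.trans hA), h3, h4, Or.inl h5⟩, hB.trans hA⟩
    · have h4 : Subgroup.zpowers a ≤ P := (Subgroup.zpowers_le.2 ha).trans hA
      refine ⟨Subgroup.zpowers a, ⟨hP.to_le h4, ?_, bo_of_tv h3, Or.inr ?_⟩, h4⟩
      · rw [Ne, Subgroup.zpowers_eq_bot]
        exact h3.ne_one
      · intro t ht d
        obtain ⟨n, rfl⟩ := Subgroup.mem_zpowers_iff.1 ht
        have h5 : a ∈ stabilizer G (2 • d) := smul_two_of_tv h3 d
        exact (Subgroup.zpow_mem _ h5 n : a ^ n ∈ stabilizer G (2 • d))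
  · rintro ⟨A, ⟨h1, h2, h3, -⟩, hA⟩
    exact ⟨A, hA, h2, h3⟩

theorem mem_Qs_iff {P : Subgroup G} (hP : IsPGroup 2 P) :
    P ∈ Qs G D ↔ ∃ A ∈ {A : Subgroup G | IsPGroup 2 A ∧ A ≠ ⊥ ∧ BO D A ∧ NGood 2 D A}, A ≤ P :=
  ⟨fun ⟨A, hA, h1, h2, h3⟩ => ⟨A, ⟨hP.to_le hA, h1, h2, h3⟩, hA⟩, fun ⟨A, ⟨_, h1, h2, h3⟩, hA⟩ => ⟨A, hA, h1, h2, h3⟩⟩

theorem Q0_of_Qs {P : Subgroup G} (h : P ∈ Qs G D) : P ∈ Q0 G D :=
  let ⟨A, hA, h1, h2, _⟩ := h
  ⟨A, hA, h1, h2⟩

theorem Q0_of_Q1 {P : Subgroup G} (h : P ∈ Q1 G D) : P ∈ Q0 G D := by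
  obtain ⟨a, ha, f, z, h⟩ := h
  refine ⟨Subgroup.zpowers a, Subgroup.zpowers_le.2 ha, ?_, bo_of_tv h⟩
  rw [Ne, Subgroup.zpowers_eq_bot]
  exact h.ne_one

theorem Q0_mono {P Q : Subgroup G} (hPQ : P ≤ Q) (h : P ∈ Q0 G D) : Q ∈ Q0 G D :=
  let ⟨A, hA, h1⟩ := h
  ⟨A, hA.trans hPQ, h1⟩

/-- **C3** -/
theorem reduceTwo (hΩ : PSet 2 G Ω) (hD : IsPTors 2 D) {Ω₀ : Finset Ω} (h0 : Orb2 G Ω₀) {c : Ω → Ω → D}
    (hc : Coc2 G Ω₀ c) (hfull : ∀ x y z, stabilizer G x ⊓ stabilizer G y ⊓ stabilizer G z ∈ Q0 G D →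
      c x z = c x y + c y z)
    (hfaith : ∀ x ∈ Ω₀, ∀ g ∈ stabilizer G x, (∀ d : D, g • d = d) → g = 1)
    (hTv : ∃ x ∈ Ω₀, stabilizer G x ∈ Q1 G D) :
    ∃ w : Ω → D, (∀ (g : G), ∀ y ∈ Ω₀, w (g • y) = g • w y) ∧
      (∀ x ∈ Ω₀, ∀ y ∈ Ω₀, stabilizer G x ⊓ stabilizer G y ∈ Q0 G D → 2 • (c x y - (w y - w x)) = 0) ∧
      ∀ x ∈ Ω₀, ∀ y ∈ Ω₀, stabilizer G x ⊓ stabilizer G y ∈ Qs G D → c x y = w y - w x := by
  classical
  have hpg : ∀ {x : Ω}, x ∈ Ω₀ → IsPGroup 2 (stabilizer G x) := fun hx => isPGroup_of_orb h0 hx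
  -- step 1: `2 c = dd w1`
  let S2 : AddSubgroup D := (nsmulAddMonoidHom 2 : D →+ D).range
  have hS2 : ∀ d : D, 2 • d ∈ S2 := fun d => ⟨d, rfl⟩
  have hS2s : ∀ g : G, ∀ d ∈ S2, g • d ∈ S2 := by
    rintro g _ ⟨d, rfl⟩
    refine ⟨g • d, ?_⟩
    change 2 • (g • d) = g • (2 • d)
    rw [smul_comm]
  obtain ⟨w1, hw1S, hw1e, hw1⟩ := twoPt hD h0 S2 hS2s (AA G D) isInv_AA (fun A h => h.1) (fun A h => by
    rcases h.2.2.2 with h1 | h1
    · exact NGoodS.of _ h1
    · rintro M hM hi _ ⟨z, rfl⟩ h2 h3 a ha haM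
      change ∑ i ∈ Finset.range 2, a ^ i • (2 • z) = 2 • (2 • z)
      rw [Finset.sum_range_succ, Finset.sum_range_one, pow_zero, one_smul, pow_one, h1 a ha, two_nsmul (2 • z)])
    (fun x y => 2 • c x y) (fun x _ y _ => hS2 _) (fun g x _ y _ => by
      rw [hc.equiv, smul_comm])
    (fun x hx y hy z hz h => by
      rw [← smul_add]
      congr 1
      refine hc.coc x hx y hy z hz ?_
      obtain ⟨A, hA, h1⟩ := h
      exact ⟨A, h1, hA.2.1, hA.2.2.1⟩)
  have hw1' : ∀ x ∈ Ω₀, ∀ y ∈ Ω₀, stabilizer G x ⊓ stabilizer G y ∈ Q0 G D → 2 • c x y = w1 y - w1 x := by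
    intro x hx y hy h
    exact hw1 x hx y hy ((mem_Q0_iff hD ((hpg hx).to_le inf_le_left)).1 h)
  -- step 2: subtract the mean value
  obtain ⟨r, hr⟩ := exists_inv_mod hD
  obtain ⟨u, hu⟩ : ∃ u : D, u = r Ω₀.card • ∑ y ∈ Ω₀, w1 y := ⟨_, rfl⟩
  have hsum : ∀ g : G, g • ∑ y ∈ Ω₀, w1 y = ∑ y ∈ Ω₀, w1 y := by
    intro g
    rw [Finset.smul_sum]
    refine Finset.sum_nbij' (fun y => g • y) (fun y => g⁻¹ • y) (fun y hy => h0.smul_mem g y hy)
      (fun y hy => h0.smul_mem g⁻¹ y hy) (fun y _ => inv_smul_smul g y) (fun y _ => smul_inv_smul g y)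
      (fun y hy => (hw1e g y hy).symm)
  have hug : ∀ g : G, g • u = u := fun g => by rw [hu, smul_comm, hsum]
  have huS : u ∈ S2 := by
    rw [hu]
    exact S2.nsmul_mem (S2.sum_mem fun y _ => hw1S y) _
  let w2 : Ω → D := fun y => w1 y - u
  have hw2S : ∀ y, w2 y ∈ S2 := fun y => S2.sub_mem (hw1S y) huS
  have hw2e : ∀ g : G, ∀ y ∈ Ω₀, w2 (g • y) = g • w2 y := fun g y hy => by
    change w1 (g • y) - u = g • (w1 y - u)
    rw [smul_sub, hw1e g y hy, hug]
  have hw2 : ∀ x ∈ Ω₀, ∀ y ∈ Ω₀, stabilizer G x ⊓ stabilizer G y ∈ Q0 G D → 2 • c x y = w2 y - w2 x := by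
    intro x hx y hy h
    rw [hw1' x hx y hy h]
    change _ = (w1 y - u) - (w1 x - u)
    abel
  have hw2sum : ∑ y ∈ Ω₀, w2 y = 0 := by
    change ∑ y ∈ Ω₀, (w1 y - u) = 0
    rw [Finset.sum_sub_distrib, Finset.sum_const, hu, smul_comm, hr _ h0.odd, sub_self]
  -- step 3: half of `w2`
  have hT2 : ∀ x ∈ Ω₀, ∀ t ∈ Wt G D x, ∀ y, t • w2 y = w2 y := by
    intro x _ t ht y
    obtain ⟨d, hd⟩ := hw2S y
    rw [← hd]
    exact Wt_smul_two ht d
  have := Fintype.ofFinite D
  let Fx : Ω → Finset Ω := fun x => Ω₀.filter fun y => Wt G D x ≤ stabilizer G y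
  let Zx : Ω → Finset Ω := fun x => Ω₀.filter fun y => ¬ Wt G D x ≤ stabilizer G y
  let e : Ω → D := fun x => ∑ y ∈ Fx x, c x y + ∑ d : D, (((Zx x).filter fun y => w2 y = d).card / 2) • d
  have hle : ∀ (g : G) (x y : Ω), Wt G D (g • x) ≤ stabilizer G (g • y) ↔ Wt G D x ≤ stabilizer G y := by
    intro g x y
    rw [Wt_smul, stabilizer_smul, cj_le_cj]
  have hee : ∀ (g : G), ∀ x ∈ Ω₀, e (g • x) = g • e x := by
    intro g x hx
    change ∑ y ∈ Fx (g • x), c (g • x) y + ∑ d : D, (((Zx (g • x)).filter fun y => w2 y = d).card / 2) • d =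
      g • (∑ y ∈ Fx x, c x y + ∑ d : D, (((Zx x).filter fun y => w2 y = d).card / 2) • d)
    rw [smul_add, Finset.smul_sum, Finset.smul_sum]
    congr 1
    · refine Finset.sum_nbij' (fun y => g⁻¹ • y) (fun y => g • y) ?_ ?_ (fun y _ => smul_inv_smul g y)
        (fun y _ => inv_smul_smul g y) ?_
      · intro y hy
        obtain ⟨h1, h2⟩ := Finset.mem_filter.1 hy
        refine Finset.mem_filter.2 ⟨h0.smul_mem g⁻¹ y h1, ?_⟩
        rw [← hle g, smul_inv_smul]
        exact h2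
      · intro y hy
        obtain ⟨h1, h2⟩ := Finset.mem_filter.1 hy
        exact Finset.mem_filter.2 ⟨h0.smul_mem g y h1, (hle g x y).2 h2⟩
      · intro y _
        rw [← hc.equiv, smul_inv_smul]
    · rw [← Equiv.sum_comp (MulAction.toPerm g : Equiv.Perm D)]
      refine Finset.sum_congr rfl fun d _ => ?_
      change (((Zx (g • x)).filter fun y => w2 y = g • d).card / 2) • (g • d) = _
      rw [smul_comm g]
      congr 2
      refine Finset.card_nbij' (fun y => g⁻¹ • y) (fun y => g • y) ?_ ?_ (fun y _ => smul_inv_smul g y)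
        (fun y _ => inv_smul_smul g y)
      · intro y hy
        obtain ⟨h1, h2⟩ := Finset.mem_filter.1 (Finset.mem_coe.1 hy)
        obtain ⟨h3, h4⟩ := Finset.mem_filter.1 h1
        refine Finset.mem_coe.2 (Finset.mem_filter.2 ⟨Finset.mem_filter.2 ⟨h0.smul_mem g⁻¹ y h3, ?_⟩, ?_⟩)
        · rw [← hle g, smul_inv_smul]
          exact h4
        · rw [hw2e g⁻¹ y h3, h2, inv_smul_smul]
      · intro y hy
        obtain ⟨h1, h2⟩ := Finset.mem_filter.1 (Finset.mem_coe.1 hy)
        obtain ⟨h3, h4⟩ := Finset.mem_filter.1 h1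
        refine Finset.mem_coe.2 (Finset.mem_filter.2 ⟨Finset.mem_filter.2 ⟨h0.smul_mem g y h3, ?_⟩, ?_⟩)
        · rw [hle]
          exact h4
        · rw [hw2e g y h3, h2]
  have hFcard : ∀ (g : G) (x : Ω), (Fx (g • x)).card = (Fx x).card := by
    intro g x
    refine Finset.card_nbij' (fun y => g⁻¹ • y) (fun y => g • y) ?_ ?_ (fun y _ => smul_inv_smul g y)
      (fun y _ => inv_smul_smul g y)
    · intro y hy
      obtain ⟨h1, h2⟩ := Finset.mem_filter.1 (Finset.mem_coe.1 hy)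
      refine Finset.mem_coe.2 (Finset.mem_filter.2 ⟨h0.smul_mem g⁻¹ y h1, ?_⟩)
      rw [← hle g, smul_inv_smul]
      exact h2
    · intro y hy
      obtain ⟨h1, h2⟩ := Finset.mem_filter.1 (Finset.mem_coe.1 hy)
      exact Finset.mem_coe.2 (Finset.mem_filter.2 ⟨h0.smul_mem g y h1, (hle g x y).2 h2⟩)
  -- the transvections
  have hTv' : ∀ x ∈ Ω₀, ∃ a ∈ Wt G D x, ∃ (f : D →+ ZMod 2) (z : D), Tv a f z := by
    obtain ⟨x0, hx0, a, ha, f, z, h⟩ := hTv
    intro x hx
    obtain ⟨g, rfl⟩ := h0.trans x0 hx0 x hx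
    refine ⟨g * a * g⁻¹, ?_, _, _, tv_cj h g⟩
    apply Subgroup.subset_closure
    refine ⟨?_, _, _, tv_cj h g⟩
    rw [stabilizer_smul, mem_cj]
    simpa [mul_assoc] using ha
  have hinvt : ∀ x ∈ Ω₀, ∀ t ∈ Wt G D x, ∀ y : Ω, Wt G D x ≤ stabilizer G (t • y) ↔ Wt G D x ≤ stabilizer G y := by
    intro x hx t ht y
    have h1 := hle t x y
    have h2 : t • x = x := Wt_le x ht
    rwa [h2] at h1
  have hZeven : ∀ x ∈ Ω₀, ∀ d, Even ((Zx x).filter fun y => w2 y = d).card := by
    intro x hx d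
    refine even_card_of_fixedPointFree (T := Wt G D x) ((hpg hx).to_le (Wt_le x)) _ ?_ ?_
    · intro t ht y hy
      obtain ⟨h1, h2⟩ := Finset.mem_filter.1 hy
      obtain ⟨h3, h4⟩ := Finset.mem_filter.1 h1
      refine Finset.mem_filter.2 ⟨Finset.mem_filter.2 ⟨h0.smul_mem t y h3, ?_⟩, ?_⟩
      · rwa [hinvt x hx t ht]
      · rw [hw2e t y h3, hT2 x hx t ht, h2]
    · intro y hy
      exact (Finset.mem_filter.1 (Finset.mem_filter.1 hy).1).2
  have hFodd : ∀ x ∈ Ω₀, Odd (Fx x).card := by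
    intro x hx
    have h1 : Even (Zx x).card := by
      refine even_card_of_fixedPointFree (T := Wt G D x) ((hpg hx).to_le (Wt_le x)) _ ?_ ?_
      · intro t ht y hy
        obtain ⟨h3, h4⟩ := Finset.mem_filter.1 hy
        refine Finset.mem_filter.2 ⟨h0.smul_mem t y h3, ?_⟩
        rwa [hinvt x hx t ht]
      · intro y hy
        exact (Finset.mem_filter.1 hy).2
    have h2 : (Fx x).card + (Zx x).card = Ω₀.card := Finset.card_filter_add_card_filter_not _
    have h3 := h0.odd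
    rw [← h2] at h3
    exact (Nat.odd_add.1 h3).2 h1
  have hkey : ∀ x ∈ Ω₀, (Fx x).card • w2 x + 2 • e x = 0 := by
    intro x hx
    have h1 : ∑ y ∈ Fx x, w2 y + ∑ y ∈ Zx x, w2 y = 0 := by
      rw [← hw2sum]
      exact Finset.sum_filter_add_sum_filter_not Ω₀ _ _
    have h2 : ∑ y ∈ Fx x, w2 y = (Fx x).card • w2 x + 2 • ∑ y ∈ Fx x, c x y := by
      rw [Finset.smul_sum, ← Finset.sum_const, ← Finset.sum_add_distrib]
      refine Finset.sum_congr rfl fun y hy => ?_
      obtain ⟨h3, h4⟩ := Finset.mem_filter.1 hy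
      obtain ⟨a, ha, f, z, h5⟩ := hTv' x hx
      rw [hw2 x hx y h3 (Q0_of_Q1 ⟨a, ⟨Wt_le x ha, h4 ha⟩, f, z, h5⟩)]
      abel
    have h3 : ∑ y ∈ Zx x, w2 y = 2 • ∑ d : D, (((Zx x).filter fun y => w2 y = d).card / 2) • d := by
      rw [Finset.smul_sum, ← Finset.sum_fiberwise (Zx x) w2]
      refine Finset.sum_congr rfl fun d _ => ?_
      rw [Finset.sum_congr rfl (fun y hy => (Finset.mem_filter.1 hy).2), Finset.sum_const, ← mul_smul,
        Nat.mul_div_cancel' (hZeven x hx d).two_dvd]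
    rw [h2, h3] at h1
    change (Fx x).card • w2 x + 2 • (∑ y ∈ Fx x, c x y + ∑ d : D, (((Zx x).filter fun y => w2 y = d).card / 2) • d) = 0
    rw [smul_add, ← add_assoc]
    exact h1
  let w' : Ω → D := fun x => - (r (Fx x).card • e x)
  have hw'e : ∀ (g : G), ∀ y ∈ Ω₀, w' (g • y) = g • w' y := by
    intro g y hy
    change - (r (Fx (g • y)).card • e (g • y)) = g • - (r (Fx y).card • e y)
    rw [smul_neg, hFcard, hee g y hy, smul_comm g]
  have hw'2 : ∀ x ∈ Ω₀, 2 • w' x = w2 x := by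
    intro x hx
    have h1 := hkey x hx
    have h2 : w2 x = r (Fx x).card • (Fx x).card • w2 x := (hr _ (hFodd x hx) _).symm
    have h3 : (Fx x).card • w2 x = - (2 • e x) := eq_neg_of_add_eq_zero_left h1
    rw [h2, h3]
    change 2 • - (r (Fx x).card • e x) = _
    rw [smul_neg, smul_neg, smul_comm 2 (r (Fx x).card)]
  -- step 4: the values in `D[2]`
  let c1 : Ω → Ω → D := fun x y => c x y - (w' y - w' x)
  have hc1 : ∀ x ∈ Ω₀, ∀ y ∈ Ω₀, stabilizer G x ⊓ stabilizer G y ∈ Q0 G D → 2 • c1 x y = 0 := by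
    intro x hx y hy h
    change 2 • (c x y - (w' y - w' x)) = 0
    rw [smul_sub, smul_sub, hw'2 x hx, hw'2 y hy, hw2 x hx y hy h, sub_self]
  let E : AddSubgroup D := (nsmulAddMonoidHom 2 : D →+ D).ker
  have hE : ∀ {d : D}, d ∈ E ↔ 2 • d = 0 := AddMonoidHom.mem_ker
  have hEs : ∀ g : G, ∀ d ∈ E, g • d ∈ E := by
    intro g d hd
    rw [hE] at hd ⊢
    rw [smul_comm, hd, smul_zero]
  have hQinv : ∀ (g : G) (x y : Ω), stabilizer G (g • x) ⊓ stabilizer G (g • y) ∈ Q0 G D ↔
      stabilizer G x ⊓ stabilizer G y ∈ Q0 G D := by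
    intro g x y
    rw [stabilizer_smul, stabilizer_smul, ← cj_inf]
    refine ⟨fun h => ?_, isInv_Q0 g _⟩
    have := isInv_Q0 g⁻¹ _ h
    rwa [cj_inv_cj] at this
  let c3 : Ω → Ω → D := fun x y => if stabilizer G x ⊓ stabilizer G y ∈ Q0 G D then c1 x y else 0
  obtain ⟨w3, hw3S, hw3e, hw3⟩ := twoPt hD h0 E hEs
    {A : Subgroup G | IsPGroup 2 A ∧ A ≠ ⊥ ∧ BO D A ∧ NGood 2 D A}
    (fun g A h => ⟨isPGroup_cj h.1 g, cj_ne_bot h.2.1, bo_cj h.2.2.1 g, ngood_cj h.2.2.2 g⟩)
    (fun A h => h.1) (fun A h => NGoodS.of _ h.2.2.2) c3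
    (fun x hx y hy => by
      by_cases h : stabilizer G x ⊓ stabilizer G y ∈ Q0 G D
      · change (if _ then _ else _) ∈ E
        rw [if_pos h, hE]
        exact hc1 x hx y hy h
      · change (if _ then _ else _) ∈ E
        rw [if_neg h]
        exact E.zero_mem)
    (fun g x hx y hy => by
      change (if _ then _ else _) = g • (if _ then _ else _)
      by_cases h : stabilizer G x ⊓ stabilizer G y ∈ Q0 G D
      · rw [if_pos h, if_pos ((hQinv g x y).2 h)]
        change c (g • x) (g • y) - (w' (g • y) - w' (g • x)) = g • (c x y - (w' y - w' x))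
        rw [hc.equiv, hw'e g x hx, hw'e g y hy, smul_sub, smul_sub]
      · rw [if_neg h, if_neg (fun h1 => h ((hQinv g x y).1 h1)), smul_zero])
    (fun x hx y hy z hz ⟨A, hA, hA'⟩ => by
      have h1 : stabilizer G x ⊓ stabilizer G y ⊓ stabilizer G z ∈ Q0 G D := ⟨A, hA', hA.2.1, hA.2.2.1⟩
      change (if _ then _ else _) = (if _ then _ else _) + (if _ then _ else _)
      rw [if_pos (Q0_mono (le_inf (inf_le_left.trans inf_le_left) inf_le_right) h1), if_pos (Q0_mono inf_le_left h1),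
        if_pos (Q0_mono (le_inf (inf_le_left.trans inf_le_right) inf_le_right) h1)]
      change c x z - (w' z - w' x) = c x y - (w' y - w' x) + (c y z - (w' z - w' y))
      rw [hc.coc x hx y hy z hz h1]
      abel)
  refine ⟨fun y => w' y + w3 y, fun g y hy => ?_, fun x hx y hy h => ?_, fun x hx y hy h => ?_⟩
  · change w' (g • y) + w3 (g • y) = g • (w' y + w3 y)
    rw [hw'e g y hy, hw3e g y hy, smul_add]
  · have h1 := hc1 x hx y hy h
    change 2 • (c x y - (w' y - w' x)) = 0 at h1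
    have h2 := hE.1 (hw3S x)
    have h3 := hE.1 (hw3S y)
    change 2 • (c x y - ((w' y + w3 y) - (w' x + w3 x))) = 0
    have h4 : c x y - ((w' y + w3 y) - (w' x + w3 x)) = c x y - (w' y - w' x) - (w3 y - w3 x) := by abel
    rw [h4, smul_sub, h1, smul_sub, h2, h3, sub_self, sub_self]
  · have h1 := hw3 x hx y hy ((mem_Qs_iff ((hpg hx).to_le inf_le_left)).1 h)
    change (if _ then _ else _) = _ at h1
    rw [if_pos (Q0_of_Qs h)] at h1
    change c x y - (w' y - w' x) = w3 y - w3 x at h1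
    change c x y = (w' y + w3 y) - (w' x + w3 x)
    rw [sub_eq_iff_eq_add] at h1
    rw [h1]
    abel

end Main

end Cfsg.Agent.H16.Lim
end
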